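import Cfsg.Agent.H600.J3Odd.Spec
import Cfsg.Agent.J3.Simple

/-!
# The action of `3·J₃` on the 61560 vectors
-/

set_option autoImplicit false

namespace Cfsg.Agent.H600.J3Odd

open Cfsg.Spor Cfsg.Agent.Lib.BitSet Cfsg.Agent.J3.Core Cfsg.Agent.J3.Orbits Cfsg.Agent.J3.Elts Matrix

section
variable {F : Type} [Field F] {ω : F}

/-- the orbit -/
def X (ω : F) : Type := {v : F9 → F // ∃ g : threeJ3 F ω, v = mat ω g *ᵥ dec ω 4161}

instance actX : MulAction (threeJ3 F ω) (X ω) where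
  smul g x := ⟨mat ω g *ᵥ x.1, by
    obtain ⟨h, hh⟩ := x.2
    exact ⟨g * h, by rw [hh, Matrix.mulVec_mulVec, map_mul]⟩⟩
  one_smul x := Subtype.ext (by
    show mat ω 1 *ᵥ x.1 = x.1
    rw [map_one, Matrix.one_mulVec])
  mul_smul g h x := Subtype.ext (by
    show mat ω (g * h) *ᵥ x.1 = mat ω g *ᵥ (mat ω h *ᵥ x.1)
    rw [map_mul, Matrix.mulVec_mulVec])

theorem smul_val (g : threeJ3 F ω) (x : X ω) : (g • x).1 = mat ω g *ᵥ x.1 := rfl

/-- the base vector -/
def x0 : X ω := ⟨dec ω 4161, 1, by rw [map_one, Matrix.one_mulVec]⟩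

theorem exists_smul (x : X ω) : ∃ g : threeJ3 F ω, g • x0 = x := by
  obtain ⟨g, hg⟩ := x.2
  exact ⟨g, Subtype.ext hg.symm⟩

theorem trans_X (x y : X ω) : ∃ g : threeJ3 F ω, g • x = y := by
  obtain ⟨g, rfl⟩ := exists_smul x
  obtain ⟨h, rfl⟩ := exists_smul y
  exact ⟨h * g⁻¹, by rw [mul_smul, inv_smul_smul]⟩

variable [Fintype F] (hF : Fintype.card F = 4) (H : Good ω)

/-- the code of a vector -/
noncomputable def code (x : X ω) : ℕ := Classical.choose (exists_dec hF H x.1)

theorem code_lt' (x : X ω) : code hF H x < 2 ^ 18 := (Classical.choose_spec (exists_dec hF H x.1)).1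

theorem dec_code (x : X ω) : dec ω (code hF H x) = x.1 := (Classical.choose_spec (exists_dec hF H x.1)).2

theorem code_eq {x : X ω} {n : ℕ} (hn : n < 2 ^ 18) (h : dec ω n = x.1) : code hF H x = n :=
  dec_injOn H (code_lt' hF H x) hn ((dec_code hF H x).trans h.symm)

theorem code_inj {x y : X ω} (h : code hF H x = code hF H y) : x = y :=
  Subtype.ext (by rw [← dec_code hF H x, ← dec_code hF H y, h])

theorem code_x0 : code hF H x0 = 4161 := code_eq hF H (by norm_num) rfl

include hF H in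
theorem inG_wd : ∀ w : List ℕ, (∀ i ∈ w, i < 7) → ∃ g : threeJ3 F ω, ∀ n < 2 ^ 18,
    mat ω g *ᵥ dec ω n = dec ω (act (wd w) n)
  | [], _ => ⟨1, fun n _ => by
      rw [map_one, Matrix.one_mulVec]
      rfl⟩
  | i :: w, h => by
    obtain ⟨g, hg, hg'⟩ := inG_gens7 hF H (gens7.getD i []) (getD_mem _ _ _ (h i List.mem_cons_self))
    obtain ⟨k, hk⟩ := inG_wd w fun i hi => h i (List.mem_cons_of_mem _ hi)
    refine ⟨k * ⟨g, hg⟩, fun n hn => ?_⟩
    have h1 : mat ω ⟨g, hg⟩ *ᵥ dec ω n = dec ω (act (gens7.getD i []) n) := hg' n hn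
    rw [map_mul, ← Matrix.mulVec_mulVec, h1, hk _ (act_lt (gens7_getD_ok i) hn), ← act_append]
    rfl

/-- the group element of a word -/
noncomputable def el (w : List ℕ) : threeJ3 F ω :=
  if h : ∀ i ∈ w, i < 7 then Classical.choose (inG_wd hF H w h) else 1

theorem el_spec {w : List ℕ} (h : ∀ i ∈ w, i < 7) : ∀ n < 2 ^ 18, mat ω (el hF H w) *ᵥ dec ω n =
    dec ω (act (wd w) n) := by
  unfold el
  rw [dif_pos h]
  exact Classical.choose_spec (inG_wd hF H w h)

theorem code_el {w : List ℕ} (h : ∀ i ∈ w, i < 7) (x : X ω) :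
    code hF H (el hF H w • x) = act (wd w) (code hF H x) := by
  apply code_eq hF H (act_lt (wd_ok w) (code_lt' hF H x))
  rw [smul_val, ← el_spec hF H h _ (code_lt' hF H x), dec_code]

/-- the subgroup -/
noncomputable def L : Subgroup (threeJ3 F ω) := Subgroup.closure {g | ∃ w ∈ lwords, g = el hF H w}

theorem lwords_lt : ∀ w ∈ lwords, ∀ i ∈ w, i < 7 := by decide

/-- A mask which is fixed by the words is invariant under `L`. -/
theorem testBit_smul {m : ℕ} (hm : ∀ l ∈ lops, img 18 l m = m) {g : threeJ3 F ω} (hg : g ∈ L hF H) :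
    ∀ x : X ω, m.testBit (code hF H (g • x)) = m.testBit (code hF H x) := by
  refine Subgroup.closure_induction (p := fun g _ => ∀ x : X ω, m.testBit (code hF H (g • x)) =
    m.testBit (code hF H x)) ?_ ?_ ?_ ?_ hg
  · rintro g ⟨w, hw, rfl⟩ x
    rw [code_el hF H (lwords_lt w hw)]
    have h1 := img_testBit_act (k := 18) (l := wd w) (m := m) (wd_ok w) (code_lt' hF H x)
    rw [hm _ (List.mem_map_of_mem hw)] at h1
    exact h1
  · intro x
    rw [one_smul]
  · intro a b _ _ ha hb x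
    rw [mul_smul, ha, hb]
  · intro a _ ha x
    have h1 := ha (a⁻¹ • x)
    rw [smul_inv_smul] at h1
    exact h1.symm

/-- All elements of the computed orbit are in the orbit of the start vector. -/
theorem gs_induction {P : ℕ → Prop} (hP : ∀ l ∈ lops, ∀ n < 2 ^ 18, P n → P (act l n)) :
    ∀ (s : List ℕ) {m : ℕ}, (∀ i ∈ s, i < 4) → (∀ n < 2 ^ 18, m.testBit n = true → P n) →
      ∀ n < 2 ^ 18, (gs s m).testBit n = true → P n
  | [], _, _, h => h
  | i :: s, m, hs, h => by
    apply gs_induction hP s (fun i hi => hs i (List.mem_cons_of_mem _ hi))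
    intro n hn hb
    rw [Nat.testBit_or, Bool.or_eq_true] at hb
    rcases hb with hb | hb
    · exact h n hn hb
    · obtain ⟨n', hn', e, hb'⟩ := img_testBit (lops_getD_ok i) hn hb
      rw [← e]
      exact hP _ (getD_mem _ _ _ (hs i List.mem_cons_self)) n' hn' (h n' hn' hb')

end

end Cfsg.Agent.H600.J3Odd
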