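import Cfsg.Agent.H600.J3Odd.Tab

/-!
# Kernel checks for the 22 orbits (part 1)
-/

set_option autoImplicit false
set_option Elab.async false

namespace Cfsg.Agent.H600.J3Odd

theorem chk0 : chkF 0 = true := by decide +kernel
theorem chk1 : chkF 1 = true := by decide +kernel
theorem chk2 : chkF 2 = true := by decide +kernel
theorem chk3 : chkF 3 = true := by decide +kernel
theorem chk4 : chkF 4 = true := by decide +kernel
theorem chk5 : chkF 5 = true := by decide +kernel
theorem chk6 : chkF 6 = true := by decide +kernel
theorem chk7 : chkF 7 = true := by decide +kernel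

end Cfsg.Agent.H600.J3Odd
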