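import Cfsg.Agent.H600.J3Odd.Tab

/-!
# Kernel checks for the 22 orbits (part 2)
-/

set_option autoImplicit false
set_option Elab.async false

namespace Cfsg.Agent.H600.J3Odd

theorem chk8 : chkF 8 = true := by decide +kernel
theorem chk9 : chkF 9 = true := by decide +kernel
theorem chk10 : chkF 10 = true := by decide +kernel
theorem chk11 : chkF 11 = true := by decide +kernel
theorem chk12 : chkF 12 = true := by decide +kernel
theorem chk13 : chkF 13 = true := by decide +kernel
theorem chk14 : chkF 14 = true := by decide +kernel

end Cfsg.Agent.H600.J3Odd
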