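import Cfsg.Agent.H600.J3Odd.Tab

/-!
# Kernel checks for the 22 orbits (part 3)
-/

set_option autoImplicit false
set_option Elab.async false

namespace Cfsg.Agent.H600.J3Odd

theorem chk15 : chkF 15 = true := by decide +kernel
theorem chk16 : chkF 16 = true := by decide +kernel
theorem chk17 : chkF 17 = true := by decide +kernel
theorem chk18 : chkF 18 = true := by decide +kernel
theorem chk19 : chkF 19 = true := by decide +kernel
theorem chk20 : chkF 20 = true := by decide +kernel
theorem chk21 : chkF 21 = true := by decide +kernel

end Cfsg.Agent.H600.J3Odd
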