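import Cfsg.Agent.H600.J3Odd.Act

/-!
# The orbits of `L` on the 61560 vectors, and the stabiliser of the base vector
-/

set_option autoImplicit false

namespace Cfsg.Agent.H600.J3Odd

open Cfsg.Spor Cfsg.Agent.Lib.BitSet Cfsg.Agent.J3.Core Cfsg.Agent.J3.Orbits Cfsg.Agent.J3.Elts
open Cfsg.Agent.J3.Order Matrix

theorem nodeW_lt : ∀ i < 26, ∀ c ∈ nodeW.getD i [], c < 7 := by decide +kernel

theorem node_lt (j : ℕ) (hj : j < 22) : (cd j).1 < 26 := by
  interval_cases j <;> decide

set_option maxRecDepth 10000 in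
theorem act_node : ∀ j < 22, act (wd (nodeW.getD (cd j).1 [])) 4161 = (cd j).2.1 := by decide +kernel

section
variable {F : Type} [Field F] {ω : F} [Fintype F] (hF : Fintype.card F = 4) (H : Good ω)

noncomputable instance fintypeX : Fintype (X ω) := by
  classical
  have : Finite (X ω) := Subtype.finite
  exact Fintype.ofFinite _

/-- representatives -/
noncomputable def rep (j : ℕ) : X ω := el hF H (nodeW.getD (cd j).1 []) • x0

theorem code_rep (j : ℕ) (hj : j < 22) : code hF H (rep hF H j) = (cd j).2.1 := by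
  unfold rep
  rw [code_el hF H (nodeW_lt _ (node_lt j hj)), code_x0, act_node j hj]

theorem rep_zero' : rep hF H 0 = x0 := by
  apply code_inj hF H
  rw [code_rep hF H 0 (by norm_num), code_x0]
  rfl

theorem testBit_M (j : ℕ) (hj : j < 22) (n : ℕ) (hn : n < 2 ^ 18) :
    (M j).testBit n = true ↔ ∃ g ∈ L hF H, code hF H (g • rep hF H j) = n := by
  constructor
  · intro h
    rw [M_eq] at h
    refine gs_induction (P := fun n => ∃ g ∈ L hF H, code hF H (g • rep hF H j) = n) ?_ (cd j).2.2.2.1
      ?_ ?_ n hn h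
    · rintro l hl n hn ⟨g, hg, rfl⟩
      obtain ⟨w, hw, rfl⟩ := List.mem_map.1 hl
      refine ⟨el hF H w * g, mul_mem (Subgroup.subset_closure ⟨w, hw, rfl⟩) hg, ?_⟩
      rw [mul_smul, code_el hF H (lwords_lt w hw)]
    · interval_cases j <;> decide
    · intro n hn h
      rw [Nat.testBit_two_pow, decide_eq_true_eq] at h
      exact ⟨1, one_mem _, by rw [one_smul, code_rep hF H j hj, h]⟩
  · rintro ⟨g, hg, rfl⟩
    rw [testBit_smul hF H (facts j hj).1 hg, code_rep hF H j hj, (facts j hj).2.2.1 j hj,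
      decide_eq_true_eq]

theorem testBit_M_code (j : ℕ) (hj : j < 22) (x : X ω) :
    (M j).testBit (code hF H x) = true ↔ ∃ g ∈ L hF H, g • rep hF H j = x := by
  rw [testBit_M hF H j hj _ (code_lt' hF H x)]
  constructor
  · rintro ⟨g, hg, h⟩
    exact ⟨g, hg, code_inj hF H h⟩
  · rintro ⟨g, hg, rfl⟩
    exact ⟨g, hg, rfl⟩

theorem testBit_M_unique {i j : ℕ} (hi : i < 22) (hj : j < 22) {x : X ω}
    (h1 : (M i).testBit (code hF H x) = true) (h2 : (M j).testBit (code hF H x) = true) : i = j := by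
  obtain ⟨g, hg, rfl⟩ := (testBit_M_code hF H i hi x).1 h1
  rw [testBit_smul hF H (facts j hj).1 hg, code_rep hF H i hi, (facts j hj).2.2.1 i hi,
    decide_eq_true_eq] at h2
  exact h2

theorem card_filter_code {m : ℕ} (hm : ∀ n < 2 ^ 18, m.testBit n = true → ∃ x : X ω, code hF H x = n) :
    (Finset.univ.filter fun x : X ω => m.testBit (code hF H x) = true).card = pc 18 m := by
  rw [pc_eq_card]
  refine Finset.card_bij (fun x _ => code hF H x) ?_ ?_ ?_
  · intro x hx
    exact Finset.mem_filter.2 ⟨Finset.mem_range.2 (code_lt' hF H x), (Finset.mem_filter.1 hx).2⟩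
  · intro x _ y _ h
    exact code_inj hF H h
  · intro n hn
    obtain ⟨h1, h2⟩ := Finset.mem_filter.1 hn
    obtain ⟨x, rfl⟩ := hm n (Finset.mem_range.1 h1) h2
    exact ⟨x, Finset.mem_filter.2 ⟨Finset.mem_univ _, h2⟩, rfl⟩

include hF H in
theorem card_X : Fintype.card (X ω) = 61560 := by
  obtain ⟨S, -, h1, -, h2, -⟩ := exists_orbit2 hF H
  have h3 : ∀ n < 2 ^ 18, (S.testBit n = true ↔ ∃ x : X ω, code hF H x = n) := by
    intro n hn
    rw [h1 n hn]
    constructor
    · rintro ⟨g, hg, h⟩
      exact ⟨⟨dec ω n, ⟨g, hg⟩, h⟩, code_eq hF H hn rfl⟩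
    · rintro ⟨x, rfl⟩
      obtain ⟨g, hx⟩ := x.2
      refine ⟨g, g.2, ?_⟩
      rw [dec_code]
      exact hx
  have h4 := card_filter_code hF H (m := S) fun n hn h => (h3 n hn).1 h
  rw [h2, Finset.filter_true_of_mem (fun x _ => (h3 _ (code_lt' hF H x)).2 ⟨x, rfl⟩), Finset.card_univ] at h4
  exact h4

theorem card_M (j : ℕ) (hj : j < 22) :
    (Finset.univ.filter fun x : X ω => (M j).testBit (code hF H x) = true).card = (cd j).2.2.1 := by
  rw [card_filter_code hF H fun n hn h => ?_, (facts j hj).2.1]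
  obtain ⟨g, -, h1⟩ := (testBit_M hF H j hj n hn).1 h
  exact ⟨_, h1⟩

theorem exists_M (x : X ω) : ∃ j < 22, (M j).testBit (code hF H x) = true := by
  classical
  have h1 : ((Finset.range 22).biUnion fun j => Finset.univ.filter fun x : X ω =>
      (M j).testBit (code hF H x) = true).card = 61560 := by
    rw [Finset.card_biUnion]
    · rw [Finset.sum_congr rfl fun j hj => card_M hF H j (Finset.mem_range.1 hj)]
      decide
    · intro i hi j hj hij
      rw [Function.onFun, Finset.disjoint_left]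
      intro x hx hx'
      exact hij (testBit_M_unique hF H (Finset.mem_range.1 hi) (Finset.mem_range.1 hj)
        (Finset.mem_filter.1 hx).2 (Finset.mem_filter.1 hx').2)
  rw [← card_X hF H, Finset.card_eq_iff_eq_univ] at h1
  have h2 := Finset.mem_univ x
  rw [← h1, Finset.mem_biUnion] at h2
  obtain ⟨j, hj, h3⟩ := h2
  exact ⟨j, Finset.mem_range.1 hj, (Finset.mem_filter.1 h3).2⟩

/-- the number of the orbit of `L` -/
noncomputable def cls (x : X ω) : Fin 22 :=
  ⟨Classical.choose (exists_M hF H x), (Classical.choose_spec (exists_M hF H x)).1⟩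

theorem cls_eq_iff (x : X ω) (j : Fin 22) : cls hF H x = j ↔ (M j).testBit (code hF H x) = true := by
  have h1 := (Classical.choose_spec (exists_M hF H x))
  constructor
  · rintro rfl
    exact h1.2
  · intro h
    exact Fin.ext (testBit_M_unique hF H h1.1 j.2 h1.2 h)

theorem cls_rep (j : Fin 22) : cls hF H (rep hF H j) = j := by
  rw [cls_eq_iff, testBit_M_code hF H j j.2]
  exact ⟨1, one_mem _, one_smul _ _⟩

theorem cls_x0 : cls hF H x0 = 0 := by
  rw [← rep_zero' hF H]
  exact cls_rep hF H 0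

theorem cls_smul {g : threeJ3 F ω} (hg : g ∈ L hF H) (x : X ω) : cls hF H (g • x) = cls hF H x := by
  rw [cls_eq_iff, testBit_smul hF H (facts _ (cls hF H x).2).1 hg, ← cls_eq_iff]

theorem exists_L (x : X ω) : ∃ g ∈ L hF H, g • rep hF H (cls hF H x) = x := by
  rw [← testBit_M_code hF H _ (cls hF H x).2, ← cls_eq_iff]

theorem card_cls (j : Fin 22) [DecidablePred fun x : X ω => cls hF H x = j] :
    (Finset.univ.filter fun x : X ω => cls hF H x = j).card = (cd j).2.2.1 := by
  rw [← card_M hF H j j.2]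
  congr 1
  ext x
  rw [Finset.mem_filter, Finset.mem_filter, cls_eq_iff]

theorem orbit_L (j : Fin 22) : MulAction.orbit (L hF H) (rep hF H j) =
    {x : X ω | cls hF H x = j} := by
  ext x
  constructor
  · rintro ⟨g, rfl⟩
    show cls hF H ((g : threeJ3 F ω) • rep hF H j) = j
    rw [cls_smul hF H g.2, cls_rep]
  · intro hx
    have hx' : cls hF H x = j := hx
    obtain ⟨g, hg, h⟩ := exists_L hF H x
    rw [hx'] at h
    exact ⟨⟨g, hg⟩, h⟩

theorem card_orbit_L (j : Fin 22) : Nat.card (MulAction.orbit (L hF H) (rep hF H j)) = (cd j).2.2.1 := by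
  classical
  rw [orbit_L, ← card_cls hF H j, Nat.card_eq_fintype_card, Fintype.card_subtype]
  rfl

theorem stab_le : MulAction.stabilizer (threeJ3 F ω) (x0 : X ω) ≤ L hF H := by
  have hG := card_threeJ3 hF H
  have h1 : Nat.card (MulAction.stabilizer (threeJ3 F ω) (x0 : X ω)) = 2448 := by
    have h2 : Nat.card (MulAction.orbit (threeJ3 F ω) (x0 : X ω)) = 61560 := by
      rw [show MulAction.orbit (threeJ3 F ω) (x0 : X ω) = Set.univ from
        Set.eq_univ_of_forall fun x => exists_smul x, Nat.card_univ, Nat.card_eq_fintype_card, card_X hF H]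
    have h3 := Nat.card_congr (MulAction.orbitProdStabilizerEquivGroup (threeJ3 F ω) (x0 : X ω))
    rw [Nat.card_prod, h2, hG] at h3
    omega
  have h4 : ∀ j : Fin 22, (cd j).2.2.1 * Nat.card (MulAction.stabilizer (L hF H) (rep hF H j)) =
      Nat.card (L hF H) := by
    intro j
    have h3 := Nat.card_congr (MulAction.orbitProdStabilizerEquivGroup (L hF H) (rep hF H j))
    rw [Nat.card_prod, card_orbit_L] at h3
    exact h3
  have h5 : 7344 * Nat.card (MulAction.stabilizer (L hF H) (rep hF H 11)) = Nat.card (L hF H) := h4 11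
  have h6 : 3 * Nat.card (MulAction.stabilizer (L hF H) (rep hF H 0)) = Nat.card (L hF H) := h4 0
  have h7 : 0 < Nat.card (MulAction.stabilizer (L hF H) (rep hF H 11)) := Nat.card_pos
  rw [rep_zero'] at h6
  have h8 : (MulAction.stabilizer (L hF H) (x0 : X ω)).map (L hF H).subtype ≤
      MulAction.stabilizer (threeJ3 F ω) (x0 : X ω) := by
    rintro _ ⟨g, hg, rfl⟩
    exact hg
  have h9 : (MulAction.stabilizer (L hF H) (x0 : X ω)).map (L hF H).subtype =
      MulAction.stabilizer (threeJ3 F ω) (x0 : X ω) := by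
    apply Subgroup.eq_of_le_of_card_ge h8
    rw [h1, Nat.card_congr ((MulAction.stabilizer (L hF H) (x0 : X ω)).equivMapOfInjective _
      (L hF H).subtype_injective).symm.toEquiv]
    omega
  rw [← h9]
  rintro _ ⟨g, hg, rfl⟩
  exact g.2

end

end Cfsg.Agent.H600.J3Odd
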