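import Cfsg.Agent.Lib.BitSet

/-!
# Faster kernel evaluation of the operations of `Lib.BitSet`

The coordinate masks are computed once and passed as a list; population counts are computed in `k` parallel
steps.
-/

set_option autoImplicit false

namespace Cfsg.Agent.H600.J3Odd

open Cfsg.Agent.Lib.BitSet

/-- Force evaluation of `n` (the kernel remembers the value of `n`). -/
noncomputable def sq {α : Type*} (n : ℕ) (f : ℕ → α) : α :=
  Bool.rec (motive := fun _ => α) (f n) (f n) (Nat.beq n 0)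

theorem sq_eq {α : Type*} (n : ℕ) (f : ℕ → α) : sq n f = f n := by
  unfold sq
  cases Nat.beq n 0 <;> rfl

noncomputable def nth (l : List ℕ) : ℕ → ℕ :=
  List.rec (motive := fun _ => ℕ → ℕ) (fun _ => 0)
    (fun a _ ih i => Nat.rec (motive := fun _ => ℕ) a (fun k _ => ih k) i) l

theorem nth_eq : ∀ (l : List ℕ) (i : ℕ), nth l i = l.getD i 0
  | [], i => by
    show (0 : ℕ) = _
    simp
  | a :: t, 0 => rfl
  | a :: t, i + 1 => by
    show nth t i = _
    rw [nth_eq t i]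
    rfl

/-- the masks from `i` on -/
def masks (k : ℕ) : List ℕ := (List.range k).map (proj k)

theorem nth_masks {k i : ℕ} (h : i < k) : nth (masks k) i = proj k i := by
  rw [nth_eq, masks, List.getD_eq_getElem _ _ (by simpa using h)]
  simp

noncomputable def stepF (Ms : List ℕ) (i j m : ℕ) : ℕ :=
  sq (Nat.land m (nth Ms j)) fun a =>
    Nat.xor m (Nat.land (Nat.xor m (Nat.lor (Nat.shiftRight a (Nat.pow 2 j))
      (Nat.shiftLeft (Nat.xor m a) (Nat.pow 2 j)))) (nth Ms i))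

theorem stepF_eq {k i j : ℕ} (hi : i < k) (hj : j < k) (m : ℕ) : stepF (masks k) i j m = step k i j m := by
  unfold stepF
  rw [sq_eq, nth_masks hi, nth_masks hj, step_def, swap_def]
  rfl

noncomputable def imgF (Ms : List ℕ) (l : List ℕ) : ℕ → ℕ :=
  List.rec (motive := fun _ => ℕ → ℕ) (fun m => m)
    (fun c _ ih m => sq (stepF Ms (Nat.div c 32) (Nat.mod c 32) m) ih) l

theorem imgF_cons (Ms : List ℕ) (c : ℕ) (l : List ℕ) (m : ℕ) :
    imgF Ms (c :: l) m = imgF Ms l (stepF Ms (c / 32) (c % 32) m) := by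
  show sq (stepF Ms (Nat.div c 32) (Nat.mod c 32) m) (fun m' => imgF Ms l m') = _
  rw [sq_eq]
  rfl

theorem imgF_eq {k : ℕ} : ∀ {l : List ℕ} (_ : okOps k l = true) (m : ℕ), imgF (masks k) l m = img k l m
  | [], _, _ => rfl
  | c :: l, h, m => by
    obtain ⟨h1, h2, _, h4⟩ := okOps_cons h
    rw [imgF_cons, img_cons, stepF_eq h1 h2, imgF_eq h4]

/-- one round of orbit enumeration -/
noncomputable def growF (Ms : List ℕ) (L : List (List ℕ)) : ℕ → ℕ :=
  List.rec (motive := fun _ => ℕ → ℕ) (fun m => m)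
    (fun l _ ih m => sq (Nat.lor m (imgF Ms l m)) ih) L

theorem growF_cons (Ms : List ℕ) (l : List ℕ) (L : List (List ℕ)) (m : ℕ) :
    growF Ms (l :: L) m = growF Ms L (m ||| imgF Ms l m) := by
  show sq (Nat.lor m (imgF Ms l m)) (fun m' => growF Ms L m') = _
  rw [sq_eq]
  rfl

theorem growF_eq {k : ℕ} : ∀ {L : List (List ℕ)} (_ : ∀ l ∈ L, okOps k l = true) (m : ℕ),
    growF (masks k) L m = grow k L m
  | [], _, _ => rfl
  | l :: L, h, m => by
    rw [growF_cons, grow_cons, imgF_eq (h l List.mem_cons_self),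
      growF_eq fun l' hl' => h l' (List.mem_cons_of_mem _ hl')]

noncomputable def bfsF (Ms : List ℕ) (L : List (List ℕ)) (r : ℕ) : ℕ → ℕ :=
  Nat.rec (motive := fun _ => ℕ → ℕ) (fun m => m) (fun _ ih m => sq (growF Ms L m) ih) r

theorem bfsF_succ (Ms : List ℕ) (L : List (List ℕ)) (r m : ℕ) :
    bfsF Ms L (r + 1) m = bfsF Ms L r (growF Ms L m) := by
  show sq (growF Ms L m) (fun m' => bfsF Ms L r m') = _
  rw [sq_eq]

theorem bfsF_eq {k : ℕ} {L : List (List ℕ)} (h : ∀ l ∈ L, okOps k l = true) : ∀ (r m : ℕ),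
    bfsF (masks k) L r m = bfs k L r m
  | 0, _ => rfl
  | r + 1, m => by rw [bfsF_succ, bfs_succ, growF_eq h, bfsF_eq h r]

/-- compute all masks -/
noncomputable def withM (k : ℕ) (f : List ℕ → Bool) (n : ℕ) : List ℕ → Bool :=
  Nat.rec (motive := fun _ => List ℕ → Bool) f (fun n ih acc => sq (proj k n) fun p => ih (p :: acc)) n

theorem withM_eq (k : ℕ) (f : List ℕ → Bool) : ∀ (n : ℕ) (acc : List ℕ),
    withM k f n acc = f ((List.range n).map (proj k) ++ acc)
  | 0, acc => rfl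
  | n + 1, acc => by
    show sq (proj k n) (fun p => withM k f n (p :: acc)) = _
    rw [sq_eq, withM_eq k f n, List.range_succ, List.map_append, List.append_assoc]
    rfl

/-- run `f` with all masks -/
noncomputable def withMasks (k : ℕ) (f : List ℕ → Bool) : Bool := withM k f k []

theorem withMasks_eq (k : ℕ) (f : List ℕ → Bool) : withMasks k f = f (masks k) := by
  unfold withMasks
  rw [withM_eq, List.append_nil]
  rfl

/-! ### population count -/

/-- one level -/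
def lev (k s m : ℕ) : ℕ := (m - (m &&& proj k s)) + ((m &&& proj k s) >>> 2 ^ s)

theorem lev_le (k s m : ℕ) : lev k s m ≤ m := by
  unfold lev
  have h1 : (m &&& proj k s) >>> 2 ^ s ≤ m &&& proj k s := by
    rw [Nat.shiftRight_eq_div_pow]
    exact Nat.div_le_self _ _
  have h2 : m &&& proj k s ≤ m := Nat.and_le_left
  omega

theorem and_split {N : ℕ} (a b p q : ℕ) (ha : a < 2 ^ N) (hp : p < 2 ^ N) :
    (2 ^ N * b + a) &&& (2 ^ N * q + p) = 2 ^ N * (b &&& q) + (a &&& p) := by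
  have hap : a &&& p < 2 ^ N := lt_of_le_of_lt Nat.and_le_left ha
  apply Nat.eq_of_testBit_eq
  intro i
  rw [Nat.testBit_and, Nat.testBit_two_pow_mul_add _ ha, Nat.testBit_two_pow_mul_add _ hp,
    Nat.testBit_two_pow_mul_add _ hap]
  split <;> rw [Nat.testBit_and]

theorem shift_split {N e : ℕ} (a b : ℕ) (hb : 2 ^ e ∣ b) :
    (2 ^ N * b + a) >>> e = 2 ^ N * (b >>> e) + (a >>> e) := by
  obtain ⟨c, rfl⟩ := hb
  rw [Nat.shiftRight_eq_div_pow, Nat.shiftRight_eq_div_pow, Nat.shiftRight_eq_div_pow,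
    Nat.mul_div_cancel_left _ (Nat.two_pow_pos e)]
  have h : 2 ^ N * (2 ^ e * c) + a = a + 2 ^ e * (2 ^ N * c) := by ring
  rw [h, Nat.add_mul_div_left _ _ (Nat.two_pow_pos e)]
  ring

theorem proj_lt (k i : ℕ) (h : i < k) : proj k i < 2 ^ 2 ^ k := by
  refine Nat.lt_pow_two_of_testBit _ fun n hn => ?_
  rw [proj_testBit k i n h, decide_eq_false (by omega), Bool.false_and]

theorem dvd_and_proj (k s m : ℕ) (h : s < k) : 2 ^ 2 ^ s ∣ m &&& proj k s := by
  rw [Nat.dvd_iff_mod_eq_zero]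
  apply Nat.eq_of_testBit_eq
  intro j
  rw [Nat.testBit_mod_two_pow, Nat.testBit_and, proj_testBit k s j h, Nat.zero_testBit]
  by_cases hj : j < 2 ^ s
  · rw [Nat.testBit_lt_two_pow hj]
    simp
  · simp [hj]

theorem proj_succ_of_ne {k s : ℕ} (h : s < k) : proj (k + 1) s = 2 ^ 2 ^ k * proj k s + proj k s := by
  rw [proj_succ, if_neg (by omega), Nat.or_comm, ← Nat.shiftLeft_add_eq_or_of_lt (proj_lt k s h),
    Nat.shiftLeft_eq]
  ring

theorem proj_succ_self (k : ℕ) : proj (k + 1) k = 2 ^ 2 ^ k * (2 ^ 2 ^ k - 1) + 0 := by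
  rw [proj_succ, if_pos rfl, Nat.shiftLeft_eq]
  ring

theorem sub_split {N a b x y : ℕ} (hx : x ≤ b) (hy : y ≤ a) :
    (2 ^ N * b + a) - (2 ^ N * x + y) = 2 ^ N * (b - x) + (a - y) := by
  have h1 : 2 ^ N * x ≤ 2 ^ N * b := Nat.mul_le_mul_left _ hx
  rw [Nat.mul_sub]
  omega

theorem lev_split {k s a b : ℕ} (hs : s < k) (ha : a < 2 ^ 2 ^ k) :
    lev (k + 1) s (2 ^ 2 ^ k * b + a) = 2 ^ 2 ^ k * lev k s b + lev k s a := by
  unfold lev
  rw [proj_succ_of_ne hs, and_split _ _ _ _ ha (proj_lt k s hs), sub_split Nat.and_le_left Nat.and_le_left,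
    shift_split _ _ (dvd_and_proj k s b hs)]
  ring

theorem lev_top {k a b : ℕ} (ha : a < 2 ^ 2 ^ k) (hb : b < 2 ^ 2 ^ k) :
    lev (k + 1) k (2 ^ 2 ^ k * b + a) = a + b := by
  unfold lev
  rw [proj_succ_self, and_split _ _ _ _ ha (Nat.two_pow_pos _), Nat.and_two_pow_sub_one_eq_mod,
    Nat.mod_eq_of_lt hb, Nat.and_zero, Nat.add_zero, Nat.add_sub_cancel_left, Nat.shiftRight_eq_div_pow,
    Nat.mul_div_cancel_left _ (Nat.two_pow_pos _)]

/-- the first `t` levels -/
def run (k : ℕ) : ℕ → ℕ → ℕ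
  | 0, m => m
  | t + 1, m => lev k t (run k t m)

theorem run_le (k : ℕ) : ∀ t m : ℕ, run k t m ≤ m
  | 0, _ => le_rfl
  | t + 1, m => (lev_le k t _).trans (run_le k t m)

theorem run_split {k : ℕ} : ∀ {t : ℕ} (_ : t ≤ k) {a b : ℕ} (_ : a < 2 ^ 2 ^ k),
    run (k + 1) t (2 ^ 2 ^ k * b + a) = 2 ^ 2 ^ k * run k t b + run k t a
  | 0, _, _, _, _ => rfl
  | t + 1, ht, a, b, ha => by
    show lev (k + 1) t (run (k + 1) t _) = 2 ^ 2 ^ k * lev k t (run k t b) + lev k t (run k t a)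
    rw [run_split (by omega) ha, lev_split (by omega) ((run_le k t a).trans_lt ha)]

theorem run_eq_pc : ∀ (k m : ℕ) (_ : m < 2 ^ 2 ^ k), run k k m = pc k m
  | 0, m, h => by
    show m = m % 2
    rw [pow_zero, pow_one] at h
    exact (Nat.mod_eq_of_lt h).symm
  | k + 1, m, h => by
    have h1 : m = 2 ^ 2 ^ k * (m >>> 2 ^ k) + m % 2 ^ 2 ^ k := by
      rw [Nat.shiftRight_eq_div_pow]
      exact (Nat.div_add_mod _ _).symm
    have h2 : m % 2 ^ 2 ^ k < 2 ^ 2 ^ k := Nat.mod_lt _ (Nat.two_pow_pos _)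
    have h3 : m >>> 2 ^ k < 2 ^ 2 ^ k := by
      rw [Nat.shiftRight_eq_div_pow]
      apply Nat.div_lt_of_lt_mul
      rw [← pow_add, ← two_mul, ← pow_succ']
      exact h
    have h4 : run (k + 1) (k + 1) m = pc k (m % 2 ^ 2 ^ k) + pc k (m >>> 2 ^ k) := by
      show lev (k + 1) k (run (k + 1) k m) = _
      rw [h1, run_split le_rfl h2, lev_top ((run_le k k _).trans_lt h2) ((run_le k k _).trans_lt h3),
        run_eq_pc k _ h2, run_eq_pc k _ h3, ← h1]
    rw [h4, pc_succ]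
    rcases Nat.eq_zero_or_pos m with h5 | h5
    · subst h5
      have h6 : pc k 0 = 0 := by
        rw [pc_eq_card]
        simp
      rw [Nat.zero_mod, Nat.zero_shiftRight, h6]
      rfl
    · have hb : Nat.beq m 0 = false := by
        cases hm : Nat.beq m 0
        · rfl
        · exact absurd (Nat.eq_of_beq_eq_true hm) (by omega)
      rw [hb, cond_false]

noncomputable def pcF (Ms : List ℕ) : ℕ → ℕ → ℕ :=
  List.rec (motive := fun _ => ℕ → ℕ → ℕ) (fun _ m => m)
    (fun P _ ih e m => sq (Nat.land m P) fun a =>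
      sq (Nat.add (Nat.sub m a) (Nat.shiftRight a e)) fun m' => ih (Nat.add e e) m') Ms

theorem pcF_cons (P : ℕ) (Ms : List ℕ) (e m : ℕ) :
    pcF (P :: Ms) e m = pcF Ms (e + e) ((m - (m &&& P)) + ((m &&& P) >>> e)) := by
  show sq (Nat.land m P) (fun a =>
      sq (Nat.add (Nat.sub m a) (Nat.shiftRight a e)) fun m' => pcF Ms (Nat.add e e) m') = _
  rw [sq_eq, sq_eq]
  rfl

theorem pcF_run (k : ℕ) : ∀ (n t m : ℕ), t + n = k →
    pcF ((List.range' t n).map (proj k)) (2 ^ t) (run k t m) = run k k m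
  | 0, t, m, h => by
    obtain rfl : t = k := by omega
    rfl
  | n + 1, t, m, h => by
    rw [List.range'_succ, List.map_cons, pcF_cons]
    have h1 := pcF_run k n (t + 1) m (by omega)
    rw [← h1, ← two_mul, ← pow_succ']
    rfl

theorem pcF_eq (k m : ℕ) (h : m < 2 ^ 2 ^ k) : pcF (masks k) 1 m = pc k m := by
  rw [← run_eq_pc k m h, ← pcF_run k k 0 m (by omega), masks, List.range_eq_range']
  rfl

end Cfsg.Agent.H600.J3Odd
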