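import Cfsg.Agent.H600.J3Odd.Chk1
import Cfsg.Agent.H600.J3Odd.Chk2
import Cfsg.Agent.H600.J3Odd.Chk3

/-!
# What the kernel checks say
-/

set_option autoImplicit false

namespace Cfsg.Agent.H600.J3Odd

open Cfsg.Spor Cfsg.Agent.Lib.BitSet Cfsg.Agent.J3.Core Cfsg.Agent.J3.Orbits

theorem okOps_append (k : ℕ) : ∀ l l' : List ℕ, okOps k l = true → okOps k l' = true → okOps k (l ++ l') = true
  | [], _, _, h => h
  | c :: l, l', h, h' => by
    show (Nat.blt (c / 32) k && (Nat.blt (c % 32) k && (!(Nat.beq (c / 32) (c % 32)) &&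
      okOps k (l ++ l')))) = true
    have h2 : (Nat.blt (c / 32) k && (Nat.blt (c % 32) k && (!(Nat.beq (c / 32) (c % 32)) &&
      okOps k l))) = true := h
    rw [Bool.and_eq_true, Bool.and_eq_true, Bool.and_eq_true] at h2 ⊢
    exact ⟨h2.1, h2.2.1, h2.2.2.1, okOps_append k l l' h2.2.2.2 h'⟩

theorem act_append : ∀ (l l' : List ℕ) (n : ℕ), act (l ++ l') n = act l' (act l n)
  | [], _, _ => rfl
  | c :: l, l', n => by
    rw [List.cons_append, act_cons, act_cons, act_append l l']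

theorem img_append (k : ℕ) : ∀ (l l' : List ℕ) (m : ℕ), img k (l ++ l') m = img k l' (img k l m)
  | [], _, _ => rfl
  | c :: l, l', m => by
    rw [List.cons_append, img_cons, img_cons, img_append k l l']

theorem gens7_getD_ok (i : ℕ) : okOps 18 (gens7.getD i []) = true := by
  by_cases h : i < gens7.length
  · exact gens7_ok _ (getD_mem _ _ _ h)
  · rw [List.getD_eq_default _ _ (by omega)]
    rfl

theorem wd_ok : ∀ w : List ℕ, okOps 18 (wd w) = true
  | [] => rfl
  | i :: w => okOps_append 18 _ _ (gens7_getD_ok i) (wd_ok w)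

theorem lops_ok : ∀ l ∈ lops, okOps 18 l = true := by
  intro l hl
  obtain ⟨w, -, rfl⟩ := List.mem_map.1 hl
  exact wd_ok w

theorem lops_getD_ok (i : ℕ) : okOps 18 (lops.getD i []) = true := by
  by_cases h : i < lops.length
  · exact lops_ok _ (getD_mem _ _ _ h)
  · rw [List.getD_eq_default _ _ (by omega)]
    rfl

theorem step_lt {k i j m : ℕ} (hi : i < k) (hm : m < 2 ^ 2 ^ k) : step k i j m < 2 ^ 2 ^ k := by
  rw [step_def]
  exact Nat.xor_lt_two_pow hm (lt_of_le_of_lt Nat.and_le_right (proj_lt k i hi))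

theorem img_lt {k : ℕ} : ∀ {l : List ℕ} (_ : okOps k l = true) {m : ℕ} (_ : m < 2 ^ 2 ^ k), img k l m < 2 ^ 2 ^ k
  | [], _, _, h => h
  | c :: l, h, m, hm => by
    obtain ⟨h1, -, -, h4⟩ := okOps_cons h
    rw [img_cons]
    exact img_lt h4 (step_lt h1 hm)

theorem gsF_cons (Ms : List ℕ) (i : ℕ) (s : List ℕ) (m : ℕ) :
    gsF Ms (i :: s) m = gsF Ms s (m ||| imgF Ms (lops.getD i []) m) := by
  show sq (Nat.lor m (imgF Ms (lops.getD i []) m)) (fun m' => gsF Ms s m') = _
  rw [sq_eq]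
  rfl

theorem gsF_eq : ∀ (s : List ℕ) (m : ℕ), gsF (masks 18) s m = gs s m
  | [], _ => rfl
  | i :: s, m => by
    rw [gsF_cons, imgF_eq (lops_getD_ok i), gsF_eq s]
    rfl

theorem gs_lt : ∀ (s : List ℕ) {m : ℕ} (_ : m < 2 ^ 2 ^ 18), gs s m < 2 ^ 2 ^ 18
  | [], _, h => h
  | i :: s, m, h => gs_lt s (Nat.or_lt_two_pow h (img_lt (lops_getD_ok i) h))

/-- data of the orbit number `j` -/
def cd (j : ℕ) : ℕ × ℕ × ℕ × List ℕ × List ℕ := ctab.getD j (0, 0, 0, [], [])

theorem code_lt (j : ℕ) (hj : j < 22) : (cd j).2.1 < 2 ^ 18 := by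
  interval_cases j <;> decide

theorem M_eq (j : ℕ) : M j = gs (cd j).2.2.2.1 (2 ^ (cd j).2.1) := rfl

theorem M_lt (j : ℕ) (hj : j < 22) : M j < 2 ^ 2 ^ 18 := by
  rw [M_eq]
  exact gs_lt _ (Nat.pow_lt_pow_right (by norm_num) (code_lt j hj))

/-- the words of the nodes in order -/
def twf : List (ℕ × ℕ) → List (List ℕ) → List (List ℕ)
  | [], _ => []
  | p :: t, ws => (ws.getD p.1 [] ++ [p.2]) :: twf t ((ws.getD p.1 [] ++ [p.2]) :: ws)

/-- the words of all nodes -/
def nodeW : List (List ℕ) := [] :: twf treeJ [[]]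

def tok : List (ℕ × ℕ) → ℕ → Bool
  | [], _ => true
  | p :: t, n => decide (p.1 < n) && tok t (n + 1)

theorem tok_treeJ : tok treeJ 1 = true := by decide

theorem img_wd_concat (w : List ℕ) (c m : ℕ) :
    img 18 (wd (w ++ [c])) m = img 18 (gens7.getD c []) (img 18 (wd w) m) := by
  rw [wd_append, img_append]
  show img 18 (gens7.getD c [] ++ []) _ = _
  rw [List.append_nil]

theorem rowsF_cons (Ms : List ℕ) (Mj : ℕ) (p : ℕ × ℕ) (t : List (ℕ × ℕ)) (Ns bs : List ℕ) :
    rowsF Ms Mj (p :: t) Ns bs =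
      (Nat.beq (pcF Ms 1 (imgF Ms (gens7.getD p.2 []) (nth Ns p.1) &&& Mj)) (bs.headD 0) &&
        rowsF Ms Mj t (imgF Ms (gens7.getD p.2 []) (nth Ns p.1) :: Ns) bs.tail) := by
  show sq (imgF Ms (gens7.getD p.2 []) (nth Ns p.1)) (fun N =>
      and (Nat.beq (sq (Nat.land N Mj) (pcF Ms 1)) (bs.headD 0)) (rowsF Ms Mj t (N :: Ns) bs.tail)) = _
  rw [sq_eq, sq_eq]
  rfl

theorem rowsF_spec {M7 Mj : ℕ} (h7 : M7 < 2 ^ 2 ^ 18) : ∀ (t : List (ℕ × ℕ)) (ws : List (List ℕ)) (bs : List ℕ),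
    tok t ws.length = true →
    rowsF (masks 18) Mj t (ws.map fun w => img 18 (wd w) M7) bs = true →
    ∀ i < t.length, pc 18 (img 18 (wd ((twf t ws).getD i [])) M7 &&& Mj) = bs.getD i 0
  | [], _, _, _, _, i, hi => by simp at hi
  | p :: t, ws, bs, hok, h, i, hi => by
    have hok' : (decide (p.1 < ws.length) && tok t (ws.length + 1)) = true := hok
    rw [Bool.and_eq_true, decide_eq_true_eq] at hok'
    have hN : imgF (masks 18) (gens7.getD p.2 []) (nth (ws.map fun w => img 18 (wd w) M7) p.1) =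
        img 18 (wd (ws.getD p.1 [] ++ [p.2])) M7 := by
      rw [imgF_eq (gens7_getD_ok _), nth_eq, img_wd_concat]
      congr 1
      rw [List.getD_eq_getElem _ _ (by simpa using hok'.1), List.getElem_map, List.getD_eq_getElem _ _ hok'.1]
    rw [rowsF_cons, Bool.and_eq_true, hN] at h
    rcases i with _ | i
    · have h1 := Nat.eq_of_beq_eq_true h.1
      rw [pcF_eq 18 _ (lt_of_le_of_lt Nat.and_le_left (img_lt (wd_ok _) h7))] at h1
      show pc 18 (img 18 (wd (ws.getD p.1 [] ++ [p.2])) M7 &&& Mj) = _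
      rw [h1]
      cases bs <;> rfl
    · have h1 := rowsF_spec h7 t ((ws.getD p.1 [] ++ [p.2]) :: ws) bs.tail hok'.2 (by
        rw [List.map_cons]; exact h.2) i (by simpa using hi)
      show pc 18 (img 18 (wd ((twf t ((ws.getD p.1 [] ++ [p.2]) :: ws)).getD i [])) M7 &&& Mj) = _
      rw [h1]
      cases bs <;> simp

theorem closedF_spec {m : ℕ} : ∀ {ls : List (List ℕ)} (_ : ∀ l ∈ ls, okOps 18 l = true)
    (_ : closedF (masks 18) m ls = true), ∀ l ∈ ls, img 18 l m = m
  | [], _, _, l, hl => by simp at hl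
  | l' :: ls, h1, h, l, hl => by
    have h' : (Nat.beq (imgF (masks 18) l' m) m && closedF (masks 18) m ls) = true := h
    rw [Bool.and_eq_true] at h'
    rcases List.mem_cons.1 hl with rfl | hl
    · rw [← imgF_eq (h1 l List.mem_cons_self)]
      exact Nat.eq_of_beq_eq_true h'.1
    · exact closedF_spec (fun l hl => h1 l (List.mem_cons_of_mem _ hl)) h'.2 l hl

theorem chk_all (j : ℕ) (hj : j < 22) : chkF j = true := by
  interval_cases j
  · exact chk0
  · exact chk1
  · exact chk2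
  · exact chk3
  · exact chk4
  · exact chk5
  · exact chk6
  · exact chk7
  · exact chk8
  · exact chk9
  · exact chk10
  · exact chk11
  · exact chk12
  · exact chk13
  · exact chk14
  · exact chk15
  · exact chk16
  · exact chk17
  · exact chk18
  · exact chk19
  · exact chk20
  · exact chk21

theorem facts (j : ℕ) (hj : j < 22) : (∀ l ∈ lops, img 18 l (M j) = M j) ∧ pc 18 (M j) = (cd j).2.2.1 ∧
    (∀ i < 22, (M j).testBit (cd i).2.1 = decide (i = j)) ∧
    ∀ i < 26, pc 18 (img 18 (wd (nodeW.getD i [])) (M 7) &&& M j) = (cd j).2.2.2.2.getD i 0 := by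
  have h := chk_all j hj
  unfold chkF at h
  rw [withMasks_eq, sq_eq, sq_eq, gsF_eq, gsF_eq] at h
  change and (closedF (masks 18) (M j) lops) (and (Nat.beq (pcF (masks 18) 1 (M j)) (cd j).2.2.1)
    (and ((List.range 22).all fun i => Bool.xor (Nat.testBit (M j) (cd i).2.1) (!Nat.beq i j))
    (and (Nat.beq (sq (Nat.land (M 7) (M j)) (pcF (masks 18) 1)) ((cd j).2.2.2.2.headD 0))
    (rowsF (masks 18) (M j) treeJ [M 7] (cd j).2.2.2.2.tail)))) = true at h
  rw [Bool.and_eq_true, Bool.and_eq_true, Bool.and_eq_true, Bool.and_eq_true] at h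
  obtain ⟨h1, h2, h3, h4, h5⟩ := h
  have hMj := M_lt j hj
  have hM7 := M_lt 7 (by norm_num)
  refine ⟨closedF_spec lops_ok h1, ?_, ?_, ?_⟩
  · rw [← pcF_eq 18 _ hMj]
    exact Nat.eq_of_beq_eq_true h2
  · intro i hi
    rw [List.all_eq_true] at h3
    have h6 := h3 i (List.mem_range.2 hi)
    by_cases hij : i = j
    · subst hij
      rw [show Nat.beq i i = true from Nat.beq_refl i] at h6
      rw [decide_eq_true rfl]
      simpa using h6
    · have h7 : Nat.beq i j = false := by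
        cases h8 : Nat.beq i j
        · rfl
        · exact absurd (Nat.eq_of_beq_eq_true h8) hij
      rw [h7] at h6
      rw [decide_eq_false hij]
      simpa using h6
  · intro i hi
    rcases i with _ | i
    · rw [sq_eq] at h4
      have h6 := Nat.eq_of_beq_eq_true h4
      rw [show Nat.land (M 7) (M j) = M 7 &&& M j from rfl,
        pcF_eq 18 _ (lt_of_le_of_lt Nat.and_le_left hM7)] at h6
      show pc 18 (M 7 &&& M j) = _
      rw [h6]
      cases (cd j).2.2.2.2 <;> rfl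
    · have h6 := rowsF_spec hM7 treeJ [[]] (cd j).2.2.2.2.tail tok_treeJ h5 i (by
        show i < 25
        omega)
      show pc 18 (img 18 (wd ((twf treeJ [[]]).getD i [])) (M 7) &&& M j) = _
      rw [h6]
      cases (cd j).2.2.2.2 <;> simp

end Cfsg.Agent.H600.J3Odd
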